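import Mathlib.RingTheory.MvPowerSeries.Substitution
import Mathlib.RingTheory.MvPowerSeries.Equiv
import Mathlib.RingTheory.MvPowerSeries.Rename
import Mathlib.RingTheory.MvPowerSeries.Inverse
import Mathlib.RingTheory.PowerSeries.Inverse
import Mathlib.Algebra.MvPolynomial.Funext
import Mathlib.Algebra.Order.Antidiag.Finsupp
import Mathlib.RingTheory.LocalRing.ResidueField.Basic

/-!
# Coordinate changes in power series rings

For a nonzero power series `g` in `n + 1` variables over an infinite field there is an isomorphism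
`k[[x_0, …, x_n]] ≃ k[[x_1, …, x_n]][[x_0]]` such that the image of `g` is `x_0`-regular.
-/

set_option autoImplicit false

universe u

namespace Groth.Agent.Etdl.H436.CoordChange

open MvPowerSeries

variable {k : Type u} [Field k] {n : ℕ}

/-- The family `x_0 ↦ a x_0`, `x_i ↦ x_i + b_i x_0`. -/
noncomputable def tt (a : k) (b : Fin n → k) : Fin (n + 1) → MvPowerSeries (Fin (n + 1)) k :=
  Fin.cons (C a * X 0) (fun i => X i.succ + C (b i) * X 0)

lemma tt_zero (a : k) (b : Fin n → k) : tt a b 0 = C a * X 0 := rfl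

lemma tt_succ (a : k) (b : Fin n → k) (i : Fin n) : tt a b i.succ = X i.succ + C (b i) * X 0 := rfl

lemma hasSubst_tt (a : k) (b : Fin n → k) : HasSubst (tt a b) := by
  refine hasSubst_of_constantCoeff_zero fun i => ?_
  refine Fin.cases ?_ (fun i => ?_) i
  · simp [tt_zero]
  · simp [tt_succ]

lemma subst_tt_tt (a : k) (b : Fin n → k) (ha : a ≠ 0) (f : MvPowerSeries (Fin (n + 1)) k) :
    subst (tt a⁻¹ (fun i => - b i * a⁻¹)) (subst (tt a b) f) = f := by
  have h := hasSubst_tt a b
  have h' := hasSubst_tt a⁻¹ (fun i => - b i * a⁻¹)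
  rw [subst_comp_subst_apply h h']
  have : (fun s => subst (tt a⁻¹ (fun i => - b i * a⁻¹)) (tt a b s)) = X := by
    funext s
    refine Fin.cases ?_ (fun i => ?_) s
    · rw [tt_zero, ← substAlgHom_apply h', map_mul, substAlgHom_X, tt_zero, substAlgHom_apply h',
        subst_C, ← mul_assoc, ← map_mul, mul_inv_cancel₀ ha, map_one, one_mul]
    · rw [tt_succ, ← substAlgHom_apply h', map_add, map_mul, substAlgHom_X, substAlgHom_X, tt_zero, tt_succ,
        substAlgHom_apply h', subst_C, add_assoc, ← mul_assoc, ← map_mul, ← add_mul, ← map_add]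
      simp
  rw [this]
  exact congrFun subst_self f

/-- The linear change of coordinates. -/
noncomputable def chg (a : k) (b : Fin n → k) (ha : a ≠ 0) :
    MvPowerSeries (Fin (n + 1)) k ≃ₐ[k] MvPowerSeries (Fin (n + 1)) k :=
  AlgEquiv.ofAlgHom (substAlgHom (hasSubst_tt a b))
    (substAlgHom (hasSubst_tt a⁻¹ (fun i => - b i * a⁻¹)))
    (by
      refine AlgHom.ext fun f => ?_
      have h := subst_tt_tt a⁻¹ (fun i => - b i * a⁻¹) (inv_ne_zero ha) f
      rw [inv_inv] at h
      have e : (fun i => - (- b i * a⁻¹) * a) = b := by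
        funext i
        field_simp
      rw [e] at h
      rw [AlgHom.comp_apply, substAlgHom_apply, substAlgHom_apply]
      exact h)
    (by
      refine AlgHom.ext fun f => ?_
      rw [AlgHom.comp_apply, substAlgHom_apply, substAlgHom_apply]
      exact subst_tt_tt a b ha f)

lemma chg_apply (a : k) (b : Fin n → k) (ha : a ≠ 0) (f : MvPowerSeries (Fin (n + 1)) k) :
    chg a b ha f = subst (tt a b) f := by
  change substAlgHom (hasSubst_tt a b) f = _
  rw [substAlgHom_apply]

/-- the embedding of the zeroth variable -/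
def emb0 (n : ℕ) : Unit ↪ Fin (n + 1) := ⟨fun _ => 0, fun _ _ _ => rfl⟩

lemma killCompl_tt (c : Fin (n + 1) → k) (s : Fin (n + 1)) :
    killCompl (emb0 n) (tt (c 0) (fun i => c i.succ) s) = C (c s) * X () := by
  refine Fin.cases ?_ (fun i => ?_) s
  · rw [tt_zero, map_mul, killCompl_C]
    have : killCompl (R := k) (emb0 n) (X (emb0 n ())) = X () := killCompl_X ()
    rw [show (X 0 : MvPowerSeries (Fin (n + 1)) k) = X (emb0 n ()) from rfl, this]
  · rw [tt_succ, map_add, map_mul, killCompl_C]
    have : killCompl (R := k) (emb0 n) (X (emb0 n ())) = X () := killCompl_X ()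
    rw [show (X 0 : MvPowerSeries (Fin (n + 1)) k) = X (emb0 n ()) from rfl, this,
      killCompl_X_eq_zero, zero_add]
    rintro ⟨y, hy⟩
    exact (Fin.succ_ne_zero i) hy.symm

lemma embDomain_emb0 (d : ℕ) :
    (Finsupp.single () d).embDomain (emb0 n) = Finsupp.single (0 : Fin (n + 1)) d := by
  rw [Finsupp.embDomain_single]
  rfl

lemma coeff_prod_tt (c : Fin (n + 1) → k) (e : Fin (n + 1) →₀ ℕ) (d : ℕ) :
    coeff (Finsupp.single (0 : Fin (n + 1)) d)
      (e.prod fun s m => (tt (c 0) (fun i => c i.succ) s) ^ m) =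
      if e.degree = d then e.prod fun s m => c s ^ m else 0 := by
  rw [← embDomain_emb0, ← coeff_killCompl, Finsupp.prod, map_prod]
  simp only [map_pow, killCompl_tt, mul_pow]
  rw [Finset.prod_mul_distrib, Finset.prod_pow_eq_pow_sum]
  have h1 : (∏ x ∈ e.support, (C (c x) : MvPowerSeries Unit k) ^ e x) =
      C (e.prod fun s m => c s ^ m) := by
    rw [Finsupp.prod, map_prod]
    exact Finset.prod_congr rfl fun x _ => (map_pow _ _ _).symm
  have h2 : (∑ i ∈ e.support, e i) = e.degree := rfl
  rw [h1, h2, coeff_C_mul, coeff_X_pow]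
  by_cases h : e.degree = d
  · rw [if_pos h, if_pos (by rw [h]), mul_one]
  · rw [if_neg h, if_neg, mul_zero]
    intro h'
    apply h
    have := congrArg (fun f => f ()) h'
    simpa using this.symm

/-- The coefficient of `x_0^d` after the change of coordinates. -/
lemma coeff_subst_tt (c : Fin (n + 1) → k) (g : MvPowerSeries (Fin (n + 1)) k) (d : ℕ) :
    coeff (Finsupp.single (0 : Fin (n + 1)) d) (subst (tt (c 0) (fun i => c i.succ)) g) =
      MvPolynomial.eval c (∑ e ∈ Finset.finsuppAntidiag (Finset.univ : Finset (Fin (n + 1))) d,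
        MvPolynomial.monomial e (coeff e g)) := by
  rw [coeff_subst (hasSubst_tt _ _), map_sum]
  have hs : ∀ e : Fin (n + 1) →₀ ℕ, e ∈ Finset.finsuppAntidiag (Finset.univ : Finset (Fin (n + 1))) d ↔
      e.degree = d := by
    intro e
    rw [Finset.mem_finsuppAntidiag]
    constructor
    · rintro ⟨h, -⟩
      rw [← h, Finsupp.degree_eq_sum]
    · intro h
      refine ⟨?_, Finset.subset_univ _⟩
      rw [← h, Finsupp.degree_eq_sum]
  rw [finsum_eq_sum_of_support_subset (s := Finset.finsuppAntidiag (Finset.univ : Finset (Fin (n + 1))) d)]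
  · refine Finset.sum_congr rfl fun e he => ?_
    rw [coeff_prod_tt, if_pos ((hs e).1 he), MvPolynomial.eval_monomial, smul_eq_mul]
  · intro e he
    rw [Finset.mem_coe, hs]
    by_contra h
    apply he
    change coeff e g • _ = 0
    rw [coeff_prod_tt, if_neg h, smul_zero]

theorem exists_coeff_ne_zero [Infinite k] (g : MvPowerSeries (Fin (n + 1)) k) (hg : g ≠ 0) :
    ∃ (c : Fin (n + 1) → k) (d : ℕ), c 0 ≠ 0 ∧
      coeff (Finsupp.single (0 : Fin (n + 1)) d) (subst (tt (c 0) (fun i => c i.succ)) g) ≠ 0 := by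
  obtain ⟨e₀, he₀⟩ : ∃ e, coeff e g ≠ 0 := by
    by_contra h
    push Not at h
    exact hg (MvPowerSeries.ext h)
  let p : MvPolynomial (Fin (n + 1)) k :=
    ∑ e ∈ Finset.finsuppAntidiag (Finset.univ : Finset (Fin (n + 1))) e₀.degree,
        MvPolynomial.monomial e (coeff e g)
  have hp : p ≠ 0 := by
    intro h
    have h1 : p.coeff e₀ = coeff e₀ g := by
      rw [MvPolynomial.coeff_sum, Finset.sum_eq_single e₀]
      · rw [MvPolynomial.coeff_monomial, if_pos rfl]
      · intro e _ he
        rw [MvPolynomial.coeff_monomial, if_neg he]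
      · intro h2
        exfalso
        apply h2
        rw [Finset.mem_finsuppAntidiag]
        exact ⟨by rw [Finsupp.degree_eq_sum], Finset.subset_univ _⟩
    rw [h, MvPolynomial.coeff_zero] at h1
    exact he₀ h1.symm
  have hq : MvPolynomial.X 0 * p ≠ 0 := mul_ne_zero (MvPolynomial.X_ne_zero 0) hp
  obtain ⟨c, hc⟩ : ∃ c, MvPolynomial.eval c (MvPolynomial.X 0 * p) ≠ 0 := by
    by_contra h
    push Not at h
    exact hq (MvPolynomial.funext fun c => by rw [h c, map_zero])
  rw [map_mul, MvPolynomial.eval_X] at hc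
  refine ⟨c, e₀.degree, left_ne_zero_of_mul hc, ?_⟩
  rw [coeff_subst_tt]
  exact right_ne_zero_of_mul hc

/-- **Coordinate change.** -/
theorem exists_coordChange [Infinite k] (g : MvPowerSeries (Fin (n + 1)) k) (hg : g ≠ 0) :
    ∃ e : MvPowerSeries (Fin (n + 1)) k ≃ₐ[k] PowerSeries (MvPowerSeries (Fin n) k),
      (e g).map (IsLocalRing.residue (MvPowerSeries (Fin n) k)) ≠ 0 := by
  obtain ⟨c, d, hc, h⟩ := exists_coeff_ne_zero g hg
  refine ⟨(chg (c 0) (fun i => c i.succ) hc).trans (finSuccEquiv k n), fun h0 => h ?_⟩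
  have h1 := congrArg (PowerSeries.coeff d) h0
  rw [PowerSeries.coeff_map, map_zero, IsLocalRing.residue_eq_zero_iff, IsLocalRing.mem_maximalIdeal,
    mem_nonunits_iff, MvPowerSeries.isUnit_iff_constantCoeff, isUnit_iff_ne_zero, not_not,
    ← coeff_zero_eq_constantCoeff_apply, AlgEquiv.trans_apply, coeff_coeff_finSuccEquiv, chg_apply] at h1
  rw [← h1]
  congr 2
  ext i
  refine Fin.cases ?_ (fun i => ?_) i
  · simp
  · rw [Finsupp.cons_succ, Finsupp.single_apply, if_neg (Fin.succ_ne_zero i).symm]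
    rfl

end Groth.Agent.Etdl.H436.CoordChange
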