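import Groth.Agent.Etdl.H436.Krasner
import Mathlib.RingTheory.PowerSeries.WeierstrassPreparation
import Mathlib.RingTheory.TensorProduct.Basic
import Mathlib.RingTheory.Localization.Integral
import Mathlib.FieldTheory.PrimitiveElement
import Mathlib.RingTheory.Localization.FractionRing

/-!
# Algebraization of finite algebras over `R[[X]]`

`R` complete Noetherian local domain.  A finite extension `E` of `Frac R[[X]]`, generated by the root
`θ` of a monic polynomial `P` over `R[[X]]` whose discriminant divides an `X`-regular element `g`,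
contains `R[[X]] ⊗_{R[X]} L₀` for a finite algebra `L₀` over `Frac R[X]`, and all elements of
`R[[X]][θ, 1/g]` belong to it.
-/

set_option autoImplicit false

universe u

open Polynomial IsLocalRing TensorProduct

namespace Groth.Agent.Etdl.H436.Approx

section Weierstrass

variable {R : Type u} [CommRing R] [IsLocalRing R] [IsAdicComplete (maximalIdeal R) R]

/-- Approximation of a power series by a polynomial modulo a power of a Weierstrass polynomial. -/
theorem exists_coeff_approx (W : PowerSeries R) (hW : W.map (residue R) ≠ 0) (N : ℕ)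
    (f : PowerSeries R) : ∃ (q : PowerSeries R) (r : R[X]), f = W ^ N * q + (r : PowerSeries R) := by
  have h : (W ^ N).map (residue R) ≠ 0 := by
    rw [map_pow]
    exact pow_ne_zero _ hW
  obtain ⟨q, r, H⟩ := f.exists_isWeierstrassDivision h
  exact ⟨q, r, H.2⟩

/-- Approximation of a monic polynomial over `R[[X]]` by one over `R[X]`. -/
theorem exists_monic_approx (W : PowerSeries R) (hW : W.map (residue R) ≠ 0) (N : ℕ)
    (P : (PowerSeries R)[X]) (hP : P.Monic) :
    ∃ (P₀ : R[X][X]) (S : (PowerSeries R)[X]), P₀.Monic ∧ P₀.natDegree = P.natDegree ∧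
      P₀.map (algebraMap R[X] (PowerSeries R)) = P + C (W ^ N) * S := by
  choose q r hqr using exists_coeff_approx W hW N
  let d := P.natDegree
  let T : R[X][X] := ∑ i ∈ Finset.range d, C (r (P.coeff i)) * X ^ i
  have hT : T.degree < (d : WithBot ℕ) := by
    simp only [T]
    rw [← Fin.sum_univ_eq_sum_range (fun i => C (r (P.coeff i)) * X ^ i)]
    exact degree_sum_fin_lt (fun i : Fin d => r (P.coeff i))
  refine ⟨X ^ d + T, ∑ i ∈ Finset.range d, C (- q (P.coeff i)) * X ^ i, monic_X_pow_add hT,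
    ?_, ?_⟩
  · exact natDegree_eq_of_degree_eq_some (by
      rw [degree_add_eq_left_of_degree_lt (by rwa [degree_X_pow]), degree_X_pow])
  · have h1 : T.map (algebraMap R[X] (PowerSeries R)) =
        ∑ i ∈ Finset.range d, C (P.coeff i) * X ^ i +
          C (W ^ N) * ∑ i ∈ Finset.range d, C (- q (P.coeff i)) * X ^ i := by
      simp only [T]
      rw [Polynomial.map_sum, Finset.mul_sum, ← Finset.sum_add_distrib]
      refine Finset.sum_congr rfl fun i _ => ?_
      rw [Polynomial.map_mul, map_C, Polynomial.map_pow, map_X, ← mul_assoc, ← C_mul, ← add_mul,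
        ← C_add]
      congr 2
      have h3 := hqr (P.coeff i)
      have h4 : (algebraMap R[X] (PowerSeries R)) (r (P.coeff i)) =
        (r (P.coeff i) : PowerSeries R) := rfl
      rw [h4]
      linear_combination -h3
    have h2 : P = X ^ d + ∑ i ∈ Finset.range d, C (P.coeff i) * X ^ i := hP.as_sum
    rw [Polynomial.map_add, Polynomial.map_pow, map_X, h1, ← add_assoc, ← h2]

end Weierstrass

section Tensor

variable {B₀ B : Type u} [CommRing B₀] [CommRing B] [Algebra B₀ B] [IsDomain B₀] [IsDomain B]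
  (hinj : Function.Injective (algebraMap B₀ B))
  (K : Type u) [Field K] [Algebra B K] [IsFractionRing B K]
  (E : Type u) [Field E] [Algebra K E] [Algebra B E] [IsScalarTower B K E]
  [FiniteDimensional K E]

include hinj in
/-- The algebra `B ⊗ L₀` inside `E`. -/
theorem exists_tensor (θ₀ : E) (P₀ : B₀[X]) (hP₀ : P₀.Monic) (hθ₀ : aeval θ₀ (P₀.map (algebraMap B₀ B)) = 0)
    (hdeg : P₀.natDegree = Module.finrank K E) (hgen : IntermediateField.adjoin K {θ₀} = ⊤) :
    ∃ (L₀ : Type u) (_ : CommRing L₀) (_ : Algebra (FractionRing B₀) L₀) (_ : Algebra B₀ L₀)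
      (_ : IsScalarTower B₀ (FractionRing B₀) L₀) (_ : Module.Finite (FractionRing B₀) L₀)
      (φ : B ⊗[B₀] L₀ →+* E), Function.Injective φ ∧
        (∀ b : B, φ (b ⊗ₜ 1) = algebraMap B E b) ∧
        ∀ (p : B[X]) (s : B₀), s ≠ 0 → ∃ y, φ y * algebraMap B E (algebraMap B₀ B s) = aeval θ₀ p := by
  let K₀ := FractionRing B₀
  let L₀ := AdjoinRoot (P₀.map (algebraMap B₀ K₀))
  have hP₀K : (P₀.map (algebraMap B₀ K₀)).Monic := hP₀.map _
  have hfin : Module.Finite K₀ L₀ := hP₀K.finite_adjoinRoot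
  let τ : L₀ := AdjoinRoot.root _
  let _ : Algebra B₀ E := ((algebraMap B E).comp (algebraMap B₀ B)).toAlgebra
  have : IsScalarTower B₀ B E := IsScalarTower.of_algebraMap_eq fun _ => rfl
  have hBE : Function.Injective (algebraMap B E) := by
    rw [IsScalarTower.algebraMap_eq B K E]
    exact (algebraMap K E).injective.comp (IsFractionRing.injective B K)
  have hB₀E : Function.Injective (algebraMap B₀ E) := hBE.comp hinj
  let ι : K₀ →+* E := IsFractionRing.lift hB₀E
  have hι : ι.comp (algebraMap B₀ K₀) = algebraMap B₀ E :=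
    RingHom.ext fun x => IsFractionRing.lift_algebraMap hB₀E x
  have hroot : (P₀.map (algebraMap B₀ K₀)).eval₂ ι θ₀ = 0 := by
    rw [eval₂_map, hι]
    rw [aeval_map_algebraMap] at hθ₀
    exact hθ₀
  let ψ₁ : L₀ →+* E := AdjoinRoot.lift ι θ₀ hroot
  have hψ₁ : ∀ x : B₀, ψ₁ (algebraMap B₀ L₀ x) = algebraMap B₀ E x := by
    intro x
    rw [IsScalarTower.algebraMap_apply B₀ K₀ L₀]
    exact (AdjoinRoot.lift_of hroot).trans (RingHom.congr_fun hι x)
  let ψ : L₀ →ₐ[B₀] E := { ψ₁ with commutes' := hψ₁ }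
  have hψτ : ψ τ = θ₀ := AdjoinRoot.lift_root hroot
  let φ : B ⊗[B₀] L₀ →ₐ[B] E := Algebra.TensorProduct.lift (Algebra.ofId B E) ψ
    (fun _ _ => Commute.all _ _)
  have hφ : ∀ (b : B) (l : L₀), φ (b ⊗ₜ l) = algebraMap B E b * ψ l := fun b l => by
    rw [Algebra.TensorProduct.lift_tmul]
    rfl
  let t : B ⊗[B₀] L₀ := 1 ⊗ₜ τ
  have hφt : φ t = θ₀ := by rw [hφ, map_one, one_mul, hψτ]
  have hφp : ∀ p : B[X], φ (aeval t p) = aeval θ₀ p := fun p => by
    rw [← aeval_algHom_apply, hφt]
  have ht : ∀ q : B₀[X], aeval t (q.map (algebraMap B₀ B)) = 1 ⊗ₜ[B₀] aeval τ q := fun q => by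
    have : t = (Algebra.TensorProduct.includeRight : L₀ →ₐ[B₀] B ⊗[B₀] L₀) τ := rfl
    rw [aeval_map_algebraMap, this, aeval_algHom_apply]
    rfl
  have htP : aeval t (P₀.map (algebraMap B₀ B)) = 0 := by
    rw [ht]
    have : aeval τ P₀ = 0 := by
      have h1 : aeval τ (P₀.map (algebraMap B₀ K₀)) = 0 := by
        rw [AdjoinRoot.aeval_eq, AdjoinRoot.mk_self]
      rwa [aeval_map_algebraMap] at h1
    rw [this, tmul_zero]
  -- `s` is invertible in `B ⊗ L₀`
  have hs : ∀ s : B₀, s ≠ 0 → ∃ u : B ⊗[B₀] L₀, u * (algebraMap B₀ B s ⊗ₜ 1) = 1 := by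
    intro s hs
    refine ⟨1 ⊗ₜ algebraMap K₀ L₀ (algebraMap B₀ K₀ s)⁻¹, ?_⟩
    have h1 : (algebraMap B₀ B s ⊗ₜ[B₀] (1 : L₀)) = 1 ⊗ₜ algebraMap B₀ L₀ s := by
      rw [Algebra.algebraMap_eq_smul_one, TensorProduct.smul_tmul, ← Algebra.algebraMap_eq_smul_one]
    rw [h1, Algebra.TensorProduct.tmul_mul_tmul, one_mul, IsScalarTower.algebraMap_apply B₀ K₀ L₀,
      ← map_mul, inv_mul_cancel₀, map_one]
    · rfl
    · intro h
      exact hs (IsFractionRing.injective B₀ K₀ (h.trans (map_zero _).symm))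
  -- clearing denominators
  have hclear : ∀ x : B ⊗[B₀] L₀, ∃ s : B₀, s ≠ 0 ∧ ∃ p : B[X],
      x * (algebraMap B₀ B s ⊗ₜ 1) = aeval t p := by
    intro x
    induction x using TensorProduct.induction_on with
    | zero => exact ⟨1, one_ne_zero, 0, by simp⟩
    | tmul b l =>
      obtain ⟨q, rfl⟩ := AdjoinRoot.mk_surjective l
      obtain ⟨s, hs0, hsq⟩ := IsLocalization.integerNormalization_spec (nonZeroDivisors B₀) q
      refine ⟨s, nonZeroDivisors.ne_zero hs0,
        C b * (IsLocalization.integerNormalization (nonZeroDivisors B₀) q).map (algebraMap B₀ B), ?_⟩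
      have h1 : (algebraMap B₀ B s ⊗ₜ[B₀] (1 : L₀)) = 1 ⊗ₜ algebraMap B₀ L₀ s := by
        rw [Algebra.algebraMap_eq_smul_one, TensorProduct.smul_tmul, ← Algebra.algebraMap_eq_smul_one]
      have h2 : aeval τ (IsLocalization.integerNormalization (nonZeroDivisors B₀) q) =
          AdjoinRoot.mk _ q * algebraMap B₀ L₀ s := by
        have h3 := congrArg (aeval τ) hsq
        have h4 : s • q = C (algebraMap B₀ K₀ s) * q := by
          rw [Algebra.smul_def]
          rfl
        rw [aeval_map_algebraMap, h4, _root_.map_mul, aeval_C, AdjoinRoot.aeval_eq, mul_comm] at h3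
        exact h3
      rw [h1, Algebra.TensorProduct.tmul_mul_tmul, mul_one, map_mul, ht, aeval_C, h2,
        Algebra.TensorProduct.algebraMap_apply, Algebra.TensorProduct.tmul_mul_tmul, mul_one, one_mul]
      rfl
    | add x y hx hy =>
      obtain ⟨s, hs, p, hp⟩ := hx
      obtain ⟨s', hs', p', hp'⟩ := hy
      refine ⟨s * s', mul_ne_zero hs hs', C (algebraMap B₀ B s') * p + C (algebraMap B₀ B s) * p', ?_⟩
      have h1 : (algebraMap B₀ B (s * s') ⊗ₜ[B₀] (1 : L₀)) =
          (algebraMap B₀ B s ⊗ₜ[B₀] (1 : L₀)) * (algebraMap B₀ B s' ⊗ₜ[B₀] (1 : L₀)) := by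
        rw [Algebra.TensorProduct.tmul_mul_tmul, mul_one, map_mul]
      have h2 : ∀ c : B, algebraMap B (B ⊗[B₀] L₀) c = c ⊗ₜ 1 := fun c => rfl
      have h3 : aeval t (C (algebraMap B₀ B s') * p + C (algebraMap B₀ B s) * p') =
          (algebraMap B₀ B s' ⊗ₜ[B₀] (1 : L₀)) * aeval t p +
            (algebraMap B₀ B s ⊗ₜ[B₀] (1 : L₀)) * aeval t p' := by
        rw [_root_.map_add, _root_.map_mul, _root_.map_mul, aeval_C, aeval_C, h2, h2]
      rw [h3, ← hp, ← hp', h1]
      ring
  refine ⟨L₀, inferInstance, inferInstance, inferInstance, inferInstance, hfin, φ.toRingHom, ?_, ?_, ?_⟩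
  · rw [injective_iff_map_eq_zero]
    intro x hx
    obtain ⟨s, hs0, p, hp⟩ := hclear x
    obtain ⟨u, hu⟩ := hs s hs0
    have h1 : aeval θ₀ p = 0 := by
      have h2 : φ x = 0 := hx
      rw [← hφp, ← hp, map_mul, h2, zero_mul]
    have hmin : minpoly K θ₀ = (P₀.map (algebraMap B₀ B)).map (algebraMap B K) := by
      have h3 : minpoly K θ₀ ∣ (P₀.map (algebraMap B₀ B)).map (algebraMap B K) := by
        apply minpoly.dvd
        rw [aeval_map_algebraMap]
        exact hθ₀
      have h4 : (minpoly K θ₀).natDegree = Module.finrank K E :=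
        (Field.primitive_element_iff_minpoly_natDegree_eq K θ₀).1 hgen
      have h5 : ((P₀.map (algebraMap B₀ B)).map (algebraMap B K)).Monic := (hP₀.map _).map _
      refine (eq_of_monic_of_dvd_of_natDegree_le (minpoly.monic (Algebra.IsIntegral.isIntegral θ₀)) h5 h3 ?_).symm
      rw [h4, ← hdeg, (hP₀.map _).natDegree_map, hP₀.natDegree_map]
    have h6 : P₀.map (algebraMap B₀ B) ∣ p := by
      rw [← map_dvd_map (algebraMap B K) (IsFractionRing.injective B K) (hP₀.map _), ← hmin]
      apply minpoly.dvd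
      rwa [aeval_map_algebraMap]
    obtain ⟨p', rfl⟩ := h6
    rw [map_mul, htP, zero_mul] at hp
    have h7 : x = x * (algebraMap B₀ B s ⊗ₜ 1) * u := by
      rw [mul_assoc, mul_comm _ u, hu, mul_one]
    rw [h7, hp, zero_mul]
  · intro b
    change φ (b ⊗ₜ 1) = _
    rw [hφ, map_one, mul_one]
  · intro p s hs0
    obtain ⟨u, hu⟩ := hs s hs0
    refine ⟨aeval t p * u, ?_⟩
    change φ _ * _ = _
    have h1 : algebraMap B E (algebraMap B₀ B s) = φ (algebraMap B₀ B s ⊗ₜ 1) := by
      rw [hφ, map_one, mul_one]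
    rw [h1, ← map_mul, mul_assoc, hu, mul_one, hφp]

end Tensor

end Groth.Agent.Etdl.H436.Approx
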