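import Groth.Agent.Etdl.H436.Approx
import Groth.Agent.CalgB.PowSer

/-!
# Algebraization of finite extensions of `Frac R[[X]]`
-/

set_option autoImplicit false

universe u

open Polynomial IsLocalRing TensorProduct

namespace Groth.Agent.Etdl.H436.AlgMain

variable (R : Type u) [CommRing R] [IsDomain R] [IsLocalRing R] [IsNoetherianRing R]
  [IsAdicComplete (maximalIdeal R) R]
  (K : Type u) [Field K] [Algebra (PowerSeries R) K] [IsFractionRing (PowerSeries R) K]
  (E : Type u) [Field E] [Algebra K E] [Algebra (PowerSeries R) E]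
  [IsScalarTower (PowerSeries R) K E] [FiniteDimensional K E]

/-- **Algebraization**: `R[[X]][θ, 1/g] ⊆ R[[X]] ⊗ L₀ ⊆ E`. -/
theorem main (θ : E) (P : (PowerSeries R)[X]) (hP : P.Monic) (hθ : aeval θ P = 0)
    (hdeg : P.natDegree = Module.finrank K E) (hgen : IntermediateField.adjoin K {θ} = ⊤)
    (a b : (PowerSeries R)[X]) (g : PowerSeries R) (hab : a * P + b * derivative P = C g)
    (hg : g.map (residue R) ≠ 0) (hgm : g ∈ maximalIdeal (PowerSeries R)) :
    ∃ (L₀ : Type u) (_ : CommRing L₀) (_ : Algebra (FractionRing R[X]) L₀) (_ : Algebra R[X] L₀)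
      (_ : IsScalarTower R[X] (FractionRing R[X]) L₀) (_ : Module.Finite (FractionRing R[X]) L₀)
      (φ : (PowerSeries R) ⊗[R[X]] L₀ →+* E), Function.Injective φ ∧
        (∀ b : PowerSeries R, φ (b ⊗ₜ 1) = algebraMap (PowerSeries R) E b) ∧
        ∀ (p : (PowerSeries R)[X]), ∃ y, φ y * algebraMap (PowerSeries R) E g = aeval θ p := by
  have hcomp : IsAdicComplete (maximalIdeal (PowerSeries R)) (PowerSeries R) :=
    CalgB.PowSer.isAdicComplete_powerSeries
  obtain ⟨W, h, H⟩ := g.exists_isWeierstrassFactorization hg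
  have hgW : g = (W : PowerSeries R) * h := H.eq_mul
  obtain ⟨h, rfl⟩ := H.isUnit
  have hWg : (W : PowerSeries R) = g * (h⁻¹ : (PowerSeries R)ˣ) := by
    rw [hgW, mul_assoc, Units.mul_inv, mul_one]
  have hWres : (W : PowerSeries R).map (residue R) ≠ 0 := by
    intro h0
    apply hg
    rw [hgW, map_mul, h0, zero_mul]
  have hWm : (W : PowerSeries R) ∈ maximalIdeal (PowerSeries R) := by
    rw [hWg]
    exact Ideal.mul_mem_right _ _ hgm
  have hW0 : W ≠ 0 := by
    rintro rfl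
    apply hWres
    rw [Polynomial.coe_zero, map_zero]
  obtain ⟨P₀, S, hP₀, hP₀d, hP₀S⟩ := Approx.exists_monic_approx (W : PowerSeries R) hWres 3 P hP
  obtain ⟨e⟩ := Krasner.nonempty_algEquiv (W : PowerSeries R) hWm P
    (P₀.map (algebraMap R[X] (PowerSeries R))) S
    (C ((h⁻¹ : (PowerSeries R)ˣ) : PowerSeries R) * a)
    (C ((h⁻¹ : (PowerSeries R)ˣ) : PowerSeries R) * b) hP (hP₀.map _)
    (by rw [hP₀.natDegree_map, hP₀d]) (by
      rw [hWg, mul_assoc, mul_assoc, ← mul_add, hab, ← C_mul, mul_comm]) hP₀S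
  let lθ : AdjoinRoot P →ₐ[PowerSeries R] E :=
    AdjoinRoot.liftAlgHom P (Algebra.ofId _ _) θ hθ
  have hlθ : lθ (AdjoinRoot.root P) = θ := AdjoinRoot.liftAlgHom_root _ _ _ _
  let θ₀ : E := lθ (e (AdjoinRoot.root _))
  have hθ₀ : aeval θ₀ (P₀.map (algebraMap R[X] (PowerSeries R))) = 0 := by
    have : θ₀ = (lθ.comp e.toAlgHom) (AdjoinRoot.root _) := rfl
    rw [this, aeval_algHom_apply, AdjoinRoot.aeval_eq, AdjoinRoot.mk_self, map_zero]
  obtain ⟨r, hr⟩ : ∃ r : (PowerSeries R)[X], θ = aeval θ₀ r := by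
    obtain ⟨r, hr⟩ := AdjoinRoot.mk_surjective (e.symm (AdjoinRoot.root P))
    refine ⟨r, ?_⟩
    have h1 : θ = (lθ.comp e.toAlgHom) (AdjoinRoot.mk _ r) := by
      rw [hr]
      change θ = lθ (e (e.symm _))
      rw [e.apply_symm_apply, hlθ]
    rw [h1, ← AdjoinRoot.aeval_eq, ← aeval_algHom_apply]
    rfl
  have hgen₀ : IntermediateField.adjoin K {θ₀} = ⊤ := by
    rw [eq_top_iff, ← hgen, IntermediateField.adjoin_le_iff, Set.singleton_subset_iff, hr]
    rw [← aeval_map_algebraMap K]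
    exact IntermediateField.algebra_adjoin_le_adjoin K {θ₀}
      (Algebra.adjoin_singleton_eq_range_aeval K θ₀ ▸ ⟨_, rfl⟩)
  have hinj : Function.Injective (algebraMap R[X] (PowerSeries R)) := Polynomial.coe_injective R
  obtain ⟨L₀, i1, i2, i3, i4, i5, φ, h1, h2, h3⟩ := Approx.exists_tensor hinj K E θ₀ P₀ hP₀ hθ₀
    (by rw [hP₀d, hdeg]) hgen₀
  refine ⟨L₀, i1, i2, i3, i4, i5, φ, h1, h2, fun p => ?_⟩
  obtain ⟨y, hy⟩ := h3 (C ((h⁻¹ : (PowerSeries R)ˣ) : PowerSeries R) * p.comp r) W hW0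
  refine ⟨y, ?_⟩
  have h4 : aeval θ₀ (p.comp r) = aeval θ p := by
    rw [aeval_comp, ← hr]
  rw [map_mul, aeval_C, h4] at hy
  have h5 : algebraMap (PowerSeries R) E g =
      algebraMap (PowerSeries R) E (algebraMap R[X] (PowerSeries R) W) *
        algebraMap (PowerSeries R) E h := by
    rw [← map_mul]
    exact congrArg _ hgW
  rw [h5, ← mul_assoc, hy, mul_right_comm, ← map_mul, Units.inv_mul, map_one, one_mul]

end Groth.Agent.Etdl.H436.AlgMain
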