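import Groth.Agent.Etalg.HenselNewton
import Groth.Agent.Ega2.CompleteFinite
import Mathlib.RingTheory.AdjoinRoot
import Mathlib.RingTheory.Nakayama

/-!
# A Krasner type lemma over complete local rings

`B` complete Noetherian local, `w` in the maximal ideal, `P, Q` monic polynomials of the same degree
with `a P + b P' = w` and `P ≡ Q` modulo `w ^ 3`; then `B[T]/P ≃ B[T]/Q`.
-/

set_option autoImplicit false

universe u

open Polynomial IsLocalRing

namespace Groth.Agent.Etdl.H436.Krasner

/-- Newton's lemma: if `f(τ) = f'(τ)² c` with `c ∈ I`, then `f` has a root `τ'` with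
`τ' - τ ∈ I`. -/
theorem exists_root_of_sq {C' : Type*} [CommRing C'] {I : Ideal C'} [HenselianRing C' I] (f : C'[X])
    (τ c : C') (hc : c ∈ I) (h : f.eval τ = (f.derivative.eval τ) ^ 2 * c) :
    ∃ τ', f.eval τ' = 0 ∧ τ' - τ ∈ I := by
  set δ := f.derivative.eval τ with hδ
  let H : C'[X] := (taylor τ f).divX.divX
  obtain ⟨z, hz, hdvd⟩ := Etalg.HenselNewton.exists_root_aux (I := I) c 1 hc isUnit_one
    (H.comp (C δ * X))
  have hzI : z ∈ I := Ideal.mem_of_dvd _ hdvd hc
  have key : ∀ y : C', f.eval (τ + y) = f.eval τ + δ * y + y ^ 2 * H.eval y := by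
    intro y
    have h1 := congrArg (eval y) (divX_mul_X_add (taylor τ f))
    have h2 := congrArg (eval y) (divX_mul_X_add (taylor τ f).divX)
    rw [taylor_coeff_zero, eval_add, eval_mul, eval_X, eval_C, taylor_eval, add_comm y τ] at h1
    rw [coeff_divX, zero_add, taylor_coeff_one, eval_add, eval_mul, eval_X, eval_C] at h2
    rw [← h1, ← h2, ← hδ]
    ring
  refine ⟨τ + δ * z, ?_, ?_⟩
  · rw [key, h]
    rw [eval_comp, eval_mul, eval_C, eval_X] at hz
    calc δ ^ 2 * c + δ * (δ * z) + (δ * z) ^ 2 * H.eval (δ * z)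
        = δ ^ 2 * (c + 1 * z + z ^ 2 * H.eval (δ * z)) := by ring
      _ = 0 := by rw [hz, mul_zero]
  · rw [add_sub_cancel_left]
    exact I.mul_mem_left _ hzI

variable {B : Type u} [CommRing B] [IsLocalRing B] [IsNoetherianRing B]
  [IsAdicComplete (maximalIdeal B) B]

/-- A finite algebra over a complete Noetherian local ring is henselian along the maximal ideal
of the base. -/
theorem henselianRing_of_finite (C' : Type u) [CommRing C'] [Algebra B C'] [Module.Finite B C'] :
    HenselianRing C' ((maximalIdeal B).map (algebraMap B C')) := by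
  have h0 : IsAdicComplete (maximalIdeal B) C' := Ega2.CompleteFinite.isAdicComplete_of_finite
  have h1 : IsAdicComplete ((maximalIdeal B).map (algebraMap B C')) C' :=
    (IsAdicComplete.map_algebraMap_iff _ _).mpr h0
  infer_instance

/-- **Krasner type lemma**: existence of a nearby root. -/
theorem exists_root (C' : Type u) [CommRing C'] [Algebra B C'] [Module.Finite B C'] (w : B)
    (hw : w ∈ maximalIdeal B) (P Q S a b : B[X]) (hab : a * P + b * derivative P = C w)
    (hPQ : Q = P + C (w ^ 3) * S) (τ : C') (hτ : aeval τ P = 0) :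
    ∃ τ' : C', aeval τ' Q = 0 ∧ τ' - τ ∈ (maximalIdeal B).map (algebraMap B C') := by
  have := henselianRing_of_finite (B := B) C'
  set I := (maximalIdeal B).map (algebraMap B C')
  let w' : C' := algebraMap B C' w
  have hw' : w' ∈ I := Ideal.mem_map_of_mem _ hw
  have h1 : aeval τ b * aeval τ (derivative P) = w' := by
    have := congrArg (aeval τ) hab
    rw [map_add, map_mul, map_mul, hτ, mul_zero, zero_add, aeval_C] at this
    exact this
  have h2 : aeval τ Q = w' ^ 3 * aeval τ S := by
    rw [hPQ, map_add, hτ, zero_add, map_mul, aeval_C, map_pow]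
  have h3 : aeval τ (derivative Q) = aeval τ (derivative P) + w' ^ 3 * aeval τ (derivative S) := by
    rw [hPQ, derivative_add, derivative_C_mul, map_add, map_mul, aeval_C, map_pow]
  have hv : IsUnit (1 + w' ^ 2 * (aeval τ b * aeval τ (derivative S))) := by
    apply Etalg.HenselNewton.isUnit_of_sub_mem (I := I) (HenselianRing.jac) isUnit_one
    rw [add_sub_cancel_left]
    exact I.mul_mem_right _ (by rw [pow_two]; exact I.mul_mem_left _ hw')
  obtain ⟨v, hv'⟩ := hv
  have h4 : aeval τ b * aeval τ (derivative Q) = w' * v := by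
    rw [h3, mul_add, h1, hv']
    ring
  let β : C' := aeval τ b * (v⁻¹ : C'ˣ)
  have h5 : w' = β * aeval τ (derivative Q) := by
    calc w' = w' * v * (v⁻¹ : C'ˣ) := by rw [mul_assoc, Units.mul_inv, mul_one]
      _ = β * aeval τ (derivative Q) := by rw [← h4]; simp only [β]; ring
  have e1 : ∀ x : C', (Q.map (algebraMap B C')).eval x = aeval x Q := fun x => by
    rw [eval_map_algebraMap]
  have e2 : ∀ x : C', (derivative (Q.map (algebraMap B C'))).eval x = aeval x (derivative Q) :=
    fun x => by rw [derivative_map, eval_map_algebraMap]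
  obtain ⟨τ', h6, h7⟩ := exists_root_of_sq (I := I) (Q.map (algebraMap B C')) τ
    (β ^ 2 * w' * aeval τ S) (I.mul_mem_right _ (I.mul_mem_left _ hw')) (by
      rw [e1, e2, h2]
      calc w' ^ 3 * aeval τ S = (w') ^ 2 * (w' * aeval τ S) := by ring
        _ = (β * aeval τ (derivative Q)) ^ 2 * (w' * aeval τ S) := by rw [← h5]
        _ = _ := by ring)
  exact ⟨τ', by rw [← e1]; exact h6, h7⟩

/-- **Krasner type lemma**. -/
theorem nonempty_algEquiv (w : B) (hw : w ∈ maximalIdeal B) (P Q S a b : B[X]) (hP : P.Monic)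
    (hQ : Q.Monic) (hdeg : Q.natDegree = P.natDegree) (hab : a * P + b * derivative P = C w)
    (hPQ : Q = P + C (w ^ 3) * S) : Nonempty (AdjoinRoot Q ≃ₐ[B] AdjoinRoot P) := by
  have hf : Module.Finite B (AdjoinRoot P) := hP.finite_adjoinRoot
  obtain ⟨τ', h1, h2⟩ := exists_root (AdjoinRoot P) w hw P Q S a b hab hPQ (AdjoinRoot.root P)
    (by rw [AdjoinRoot.aeval_eq, AdjoinRoot.mk_self])
  let φ : AdjoinRoot Q →ₐ[B] AdjoinRoot P := AdjoinRoot.liftAlgHom Q (Algebra.ofId B _) τ' (by
    rw [← h1]; rfl)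
  have hφ : φ (AdjoinRoot.root Q) = τ' := AdjoinRoot.liftAlgHom_root _ _ _ _
  have hsurj : Function.Surjective φ := by
    have h3 : (⊤ : Submodule B (AdjoinRoot P)) ≤ LinearMap.range φ.toLinearMap ⊔
        (maximalIdeal B) • (⊤ : Submodule B (AdjoinRoot P)) := by
      have h4 : ((maximalIdeal B) • (⊤ : Submodule B (AdjoinRoot P))) =
          ((maximalIdeal B).map (algebraMap B (AdjoinRoot P))).restrictScalars B :=
        Ideal.smul_top_eq_map _
      rw [h4]
      rintro x -
      obtain ⟨p, rfl⟩ := AdjoinRoot.mk_surjective x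
      have h5 : AdjoinRoot.mk P p = φ (aeval (AdjoinRoot.root Q) p) +
          (AdjoinRoot.mk P p - φ (aeval (AdjoinRoot.root Q) p)) := by ring
      rw [h5]
      refine Submodule.add_mem_sup ⟨_, rfl⟩ ?_
      change _ ∈ (maximalIdeal B).map (algebraMap B (AdjoinRoot P))
      rw [← aeval_algHom_apply, hφ, ← AdjoinRoot.aeval_eq, ← eval_map_algebraMap, ← eval_map_algebraMap]
      obtain ⟨c, hc⟩ := sub_dvd_eval_sub (AdjoinRoot.root P) τ' (p.map (algebraMap B (AdjoinRoot P)))
      rw [hc]
      apply Ideal.mul_mem_right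
      rw [← neg_sub]
      exact neg_mem h2
    have h6 := Submodule.le_of_le_smul_of_le_jacobson_bot (N := LinearMap.range φ.toLinearMap)
      (N' := ⊤) hf.1 (IsLocalRing.maximalIdeal_le_jacobson _) h3
    intro x
    obtain ⟨y, hy⟩ := h6 (Submodule.mem_top (x := x))
    exact ⟨y, hy⟩
  let e : AdjoinRoot P ≃ₗ[B] AdjoinRoot Q :=
    (AdjoinRoot.powerBasis' hP).basis.equivFun ≪≫ₗ
      (LinearEquiv.funCongrLeft B B (finCongr (by
        rw [AdjoinRoot.powerBasis'_dim, AdjoinRoot.powerBasis'_dim, hdeg]))) ≪≫ₗ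
      (AdjoinRoot.powerBasis' hQ).basis.equivFun.symm
  have hinj : Function.Injective φ := by
    have h7 : Function.Injective ((φ.toLinearMap).comp e.toLinearMap) :=
      OrzechProperty.injective_of_surjective_endomorphism _ (hsurj.comp e.surjective)
    intro x y hxy
    have := h7 (a₁ := e.symm x) (a₂ := e.symm y) (by simpa using hxy)
    exact e.symm.injective this
  exact ⟨AlgEquiv.ofBijective φ ⟨hinj, hsurj⟩⟩

end Groth.Agent.Etdl.H436.Krasner
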